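import Cfsg.Agent.Lib.Perm.Module

/-!
# Weights of an abelian normal subgroup on a module over a closed field

`proj χ` is the (unnormalised) projector onto the weight space of `χ`; `supp v` is the set of weights
occurring in `v`.  The main result bounds the fixed space of a `2`-subgroup in characteristic `2`.
-/

set_option autoImplicit false

namespace Cfsg.Lib.Amalgam.Wt

open Subgroup Module
open scoped Pointwise

variable {K V S : Type*} [Field K] [AddCommGroup V] [Module K V] [Group S] {P : Subgroup S}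

/-- The conjugation action on the linear characters of a normal subgroup. -/
@[reducible] def chAct (K : Type*) [Field K] (P : Subgroup S) [P.Normal] : MulAction S (P →* Kˣ) where
  smul g χ := χ.comp (MulAut.conjNormal g⁻¹).toMonoidHom
  one_smul χ := by
    ext a
    change (χ (MulAut.conjNormal (1 : S)⁻¹ a) : K) = χ a
    simp
  mul_smul g h χ := by
    ext a
    change (χ (MulAut.conjNormal (g * h)⁻¹ a) : K) = χ (MulAut.conjNormal h⁻¹ (MulAut.conjNormal g⁻¹ a))
    simp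

attribute [local instance] chAct

theorem chAct_apply [P.Normal] (g : S) (χ : P →* Kˣ) (a : P) :
    (g • χ) a = χ (MulAut.conjNormal g⁻¹ a) := rfl

variable [Fintype P] (τ : S →* End K V)

/-- The unnormalised projector onto a weight space. -/
noncomputable def proj (χ : P →* Kˣ) : End K V := ∑ a : P, (((χ a)⁻¹ : Kˣ) : K) • τ a

theorem proj_apply (χ : P →* Kˣ) (v : V) : proj τ χ v = ∑ a : P, (((χ a)⁻¹ : Kˣ) : K) • τ a v := by
  simp [proj, LinearMap.sum_apply]

theorem proj_eigen (χ : P →* Kˣ) (v : V) (b : P) : τ b (proj τ χ v) = (χ b : K) • proj τ χ v := by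
  rw [proj_apply, map_sum, Finset.smul_sum]
  refine Fintype.sum_equiv (Equiv.mulLeft b) _ _ fun a => ?_
  simp only [Equiv.coe_mulLeft, map_mul, coe_mul, End.mul_apply, map_smul, smul_smul, mul_inv,
    Units.val_mul]
  rw [← mul_assoc, Units.mul_inv, one_mul]

theorem proj_of_eigen {χ ψ : P →* Kˣ} {u : V} (hu : ∀ a : P, τ a u = (ψ a : K) • u) :
    proj τ χ u = (∑ a : P, (((χ⁻¹ * ψ) a : Kˣ) : K)) • u := by
  rw [proj_apply, Finset.sum_smul]
  refine Finset.sum_congr rfl fun a _ => ?_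
  rw [hu, smul_smul]
  rfl

theorem proj_of_eigen_ne {χ ψ : P →* Kˣ} {u : V} (hu : ∀ a : P, τ a u = (ψ a : K) • u) (h : χ ≠ ψ) :
    proj τ χ u = 0 := by
  rw [proj_of_eigen τ hu]
  have h1 : (Units.coeHom K).comp (χ⁻¹ * ψ) ≠ 1 := fun e => h (by
    ext a
    have := DFunLike.congr_fun e a
    simp only [MonoidHom.comp_apply, MonoidHom.mul_apply, MonoidHom.inv_apply, Units.coeHom_apply,
      MonoidHom.one_apply, Units.val_eq_one, inv_mul_eq_one] at this
    rw [this])
  have := sum_hom_units_eq_zero _ h1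
  simp only [MonoidHom.comp_apply, Units.coeHom_apply] at this
  rw [this, zero_smul]

theorem proj_of_eigen_self {ψ : P →* Kˣ} {u : V} (hu : ∀ a : P, τ a u = (ψ a : K) • u) :
    proj τ ψ u = (Nat.card P : K) • u := by
  rw [proj_of_eigen τ hu]
  simp

theorem proj_smul [P.Normal] (g : S) (χ : P →* Kˣ) (v : V) : proj τ (g • χ) (τ g v) = τ g (proj τ χ v) := by
  rw [proj_apply, proj_apply, map_sum]
  symm
  refine Fintype.sum_equiv (MulAut.conjNormal g).toEquiv _ _ fun a => ?_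
  simp only [chAct_apply, map_smul, MulEquiv.toEquiv_eq_coe, EquivLike.coe_coe]
  congr 1
  · simp
  · rw [← End.mul_apply, ← End.mul_apply, ← map_mul, ← map_mul]
    simp

/-- The weights occurring in a vector. -/
def supp (v : V) : Set (P →* Kˣ) := {χ | proj τ χ v ≠ 0}

theorem supp_smul [P.Normal] (g : S) (v : V) : supp (P := P) τ (τ g v) = g • supp (P := P) τ v := by
  ext χ
  rw [Set.mem_smul_set_iff_inv_smul_mem]
  change proj τ χ (τ g v) ≠ 0 ↔ proj τ (g⁻¹ • χ) v ≠ 0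
  conv_lhs => rw [← smul_inv_smul g χ, proj_smul]
  refine not_congr ⟨fun h => ?_, fun h => by rw [h, map_zero]⟩
  have := congrArg (τ g⁻¹) h
  rwa [← End.mul_apply, ← map_mul, inv_mul_cancel, map_one, map_zero] at this

theorem supp_nonempty [IsAlgClosed K] [IsMulCommutative P] (hP : (Nat.card P : K) ≠ 0) {v : V} (hv : v ≠ 0) :
    (supp (P := P) τ v).Nonempty := by
  classical
  by_contra h
  rw [Set.not_nonempty_iff_eq_empty] at h
  have h0 : ∀ χ : P →* Kˣ, proj τ χ v = 0 := fun χ => by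
    by_contra e
    exact (h.le e : χ ∈ (∅ : Set _))
  let _ : CommGroup P := { (inferInstance : Group P) with mul_comm := fun a b => mul_comm' a b }
  have : NeZero ((Monoid.exponent P : ℕ) : K) := ⟨fun e => hP (by
    obtain ⟨c, hc⟩ : Monoid.exponent P ∣ Nat.card P := Group.exponent_dvd_nat_card
    rw [hc, Nat.cast_mul, e, zero_mul])⟩
  have hc := CommGroup.card_monoidHom_of_hasEnoughRootsOfUnity P K
  have : Finite (P →* Kˣ) := Nat.finite_of_card_ne_zero (hc ▸ Nat.card_pos.ne')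
  have := Fintype.ofFinite (P →* Kˣ)
  have h1 : ∑ χ : P →* Kˣ, proj τ χ v = (Nat.card P : K) • v := by
    simp_rw [proj_apply]
    rw [Finset.sum_comm, Finset.sum_eq_single 1]
    · rw [← hc]
      simp [Nat.cast_smul_eq_nsmul]
    · intro a _ ha
      rw [← Finset.sum_smul]
      obtain ⟨φ, hφ⟩ := CommGroup.exists_apply_ne_one_of_hasEnoughRootsOfUnity P K ha
      let f : (P →* Kˣ) →* K := (Units.coeHom K).comp ((MonoidHom.eval a⁻¹ : (P →* Kˣ) →* Kˣ))
      have h2 : f ≠ 1 := fun e => hφ (by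
        have := DFunLike.congr_fun e φ
        simpa [f] using this)
      have h3 : ∑ χ : P →* Kˣ, (((χ a)⁻¹ : Kˣ) : K) = 0 := by
        rw [← sum_hom_units_eq_zero f h2]
        refine Finset.sum_congr rfl fun χ _ => ?_
        change _ = ((χ a⁻¹ : Kˣ) : K)
        rw [map_inv]
      rw [h3, zero_smul]
    · simp
  rw [Finset.sum_eq_zero fun χ _ => h0 χ] at h1
  exact (smul_eq_zero.1 h1.symm).elim hP hv

theorem supp_proj {χ : P →* Kˣ} (v : V) : supp τ (proj τ χ v) ⊆ {χ} := fun ψ hψ => by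
  by_contra e
  exact hψ (proj_of_eigen_ne τ (proj_eigen τ χ v) e)

/-- Vectors whose weights lie in a given set. -/
def sub (O : Set (P →* Kˣ)) : Submodule K V where
  carrier := {v | supp τ v ⊆ O}
  add_mem' {a b} ha hb χ hχ := by
    by_contra e
    refine hχ ?_
    have h1 : proj τ χ a = 0 := by by_contra h; exact e (ha h)
    have h2 : proj τ χ b = 0 := by by_contra h; exact e (hb h)
    rw [map_add, h1, h2, add_zero]
  zero_mem' χ hχ := absurd (map_zero _) hχ
  smul_mem' c a ha χ hχ := ha fun e => hχ (by rw [map_smul, e, smul_zero])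

theorem exists_orbit_vec [P.Normal] [IsAlgClosed K] [IsMulCommutative P] (hP : (Nat.card P : K) ≠ 0)
    {r : ℕ} [Fact r.Prime] [CharP K r] (T : Subgroup S) [Finite T] (hT : IsPGroup r T) {χ : P →* Kˣ} {v : V}
    (h : χ ∈ supp τ v) : ∃ w : V, (∀ s ∈ T, τ s w = w) ∧ supp τ w = MulAction.orbit T χ := by
  obtain ⟨w, hw, h0, hf⟩ := Cfsg.Lib.Perm.exists_fixed_vector hT (τ.comp T.subtype)
    (sub τ (MulAction.orbit T χ)) (fun g u hu => by
      change supp τ (τ g u) ⊆ _
      rw [supp_smul]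
      rintro _ ⟨ψ, hψ, rfl⟩
      exact MulAction.mem_orbit_of_mem_orbit g (hu hψ)) (fun e => h (by
      have : proj τ χ v ∈ sub τ (MulAction.orbit T χ) :=
        (supp_proj τ v).trans (Set.singleton_subset_iff.2 (MulAction.mem_orbit_self χ))
      rwa [e, Submodule.mem_bot] at this))
  refine ⟨w, fun s hs => hf ⟨s, hs⟩, Set.Subset.antisymm hw ?_⟩
  obtain ⟨ψ, hψ⟩ := supp_nonempty (P := P) τ hP h0
  rw [← MulAction.orbit_eq_iff.2 (hw hψ)]
  rintro _ ⟨g, rfl⟩
  have h1 := supp_smul (P := P) τ g w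
  rw [show τ g w = w from hf g] at h1
  rw [h1]
  exact ⟨ψ, hψ, rfl⟩

/-- The fixed space of a subgroup. -/
def fixS (T : Subgroup S) : Submodule K V where
  carrier := {v | ∀ s ∈ T, τ s v = v}
  add_mem' {a b} ha hb s hs := by rw [map_add, ha s hs, hb s hs]
  zero_mem' s _ := map_zero _
  smul_mem' c a ha s hs := by rw [map_smul, ha s hs]

theorem smul_orbit_ne [P.Normal] [Finite S] {r q : ℕ} [Fact r.Prime] [Fact q.Prime] (hrq : q ≠ r)
    (hfix : ∀ v : V, (∀ a : P, τ a v = v) → v = 0) (T : Subgroup S) (hT : IsPGroup r T) {Q : Subgroup S}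
    (hQ : Nat.card Q = q) (hc : ⁅P, Q⁆ = P) {x : S} (hx : x ∈ Q) (h1 : x ≠ 1) {χ : P →* Kˣ} {w : V}
    (hw : supp τ w = MulAction.orbit T χ) : x • MulAction.orbit T χ ≠ MulAction.orbit T χ := by
  intro e
  have hQx : zpowers x = Q := by
    have h2 : zpowers x ≤ Q := by rwa [zpowers_le]
    refine eq_of_le_of_card_ge h2 ?_
    rcases (Nat.dvd_prime Fact.out).1 (hQ ▸ card_dvd_of_le h2) with h | h
    · exact absurd (zpowers_eq_bot.1 (card_eq_one.1 h)) h1
    · rw [h, hQ]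
  let O : SubMulAction Q (P →* Kˣ) :=
    { carrier := MulAction.orbit T χ
      smul_mem' := fun c ψ hψ => by
        have h3 : Q ≤ MulAction.stabilizer S (MulAction.orbit T χ) := by
          rw [← hQx, zpowers_le]; exact e
        have h4 : (c : S) • MulAction.orbit T χ = MulAction.orbit T χ := h3 c.2
        rw [← h4]
        exact ⟨ψ, hψ, rfl⟩ }
  have hQp : IsPGroup q Q := IsPGroup.of_card (n := 1) (by rw [hQ, pow_one])
  have : Finite O := (MulAction.orbit T χ).toFinite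
  obtain ⟨n, hn⟩ := hT.card_orbit χ
  obtain ⟨⟨ψ, hψ⟩, h5⟩ := hQp.nonempty_fixed_point_of_prime_not_dvd_card O (by
    change ¬ q ∣ Nat.card (MulAction.orbit T χ)
    rw [hn]
    exact fun h => hrq ((Nat.prime_dvd_prime_iff_eq Fact.out Fact.out).1 ((Fact.out : q.Prime).dvd_of_dvd_pow h)))
  have h6 : ∀ c ∈ Q, c • ψ = ψ := fun c hc => congrArg Subtype.val (h5 ⟨c, hc⟩)
  have h7 : ∀ a : P, ψ a = 1 := by
    have : ⁅P, Q⁆ ≤ ψ.ker.map P.subtype := commutator_le.2 fun a ha c hc => by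
      refine ⟨⟨a, ha⟩ * MulAut.conjNormal c (⟨a, ha⟩ : P)⁻¹, ?_, by simp [commutatorElement_def, mul_assoc]⟩
      have h8 := DFunLike.congr_fun (h6 c⁻¹ (inv_mem hc)) (⟨a, ha⟩ : P)⁻¹
      rw [chAct_apply, inv_inv] at h8
      rw [SetLike.mem_coe, MonoidHom.mem_ker, map_mul, h8, ← map_mul, mul_inv_cancel, map_one]
    intro a
    obtain ⟨b, hb, hb'⟩ := this (hc.ge a.2)
    rwa [show b = a from Subtype.ext hb'] at hb
  have h8 : ψ ∈ supp τ w := hw ▸ hψ
  exact h8 (hfix _ fun a => by rw [proj_eigen, h7, Units.val_one, one_smul])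

theorem two_le_fixS [P.Normal] [Finite S] [IsAlgClosed K] [IsMulCommutative P] [FiniteDimensional K V]
    [Nontrivial V] (hP : (Nat.card P : K) ≠ 0) {r q : ℕ} [Fact r.Prime] [CharP K r] [Fact q.Prime] (hrq : q ≠ r)
    (hq2 : q ≠ 2) (hfix : ∀ v : V, (∀ a : P, τ a v = v) → v = 0) (T : Subgroup S) (hT : IsPGroup r T)
    {Q : Subgroup S} (hQ : Nat.card Q = q) (hc : ⁅P, Q⁆ = P) :
    2 ≤ finrank K (fixS τ T) ∧ (finrank K (fixS τ T) = 2 → ∃ x ∈ Q, ∃ w ∈ fixS τ T, τ x w ∉ fixS τ T) := by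
  obtain ⟨v, hv⟩ := exists_ne (0 : V)
  obtain ⟨χ, hχ⟩ := supp_nonempty (P := P) τ hP hv
  obtain ⟨v₁, hv₁, s₁⟩ := exists_orbit_vec τ hP T hT hχ
  have : Nontrivial Q := Finite.one_lt_card_iff_nontrivial.1 (hQ ▸ (Fact.out : q.Prime).one_lt)
  obtain ⟨⟨x, hx⟩, h1⟩ := exists_ne (1 : Q)
  have h1' : x ≠ 1 := fun e => h1 (Subtype.ext e)
  have h2 : x * x ≠ 1 := fun e => by
    have h3 : orderOf (⟨x, hx⟩ : Q) ∣ 2 := orderOf_dvd_of_pow_eq_one (Subtype.ext (by simpa [sq] using e))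
    have h4 : orderOf (⟨x, hx⟩ : Q) ∣ q := hQ ▸ orderOf_dvd_natCard _
    have h5 := Nat.dvd_gcd h3 h4
    rw [((Nat.coprime_primes Nat.prime_two Fact.out).2 hq2.symm).gcd_eq_one, Nat.dvd_one,
      orderOf_eq_one_iff] at h5
    exact h1 h5
  set O := MulAction.orbit T χ with hO
  have hOf : O.Finite := (MulAction.orbit T χ).toFinite
  have a1 : x • O ≠ O := smul_orbit_ne τ hrq hfix T hT hQ hc hx h1' s₁
  have a2 : (x * x) • O ≠ O := smul_orbit_ne τ hrq hfix T hT hQ hc (mul_mem hx hx) h2 s₁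
  have key : ∀ y : S, y • O ≠ O → ¬ O ⊆ y • O := fun y hy h =>
    hy (Set.eq_of_subset_of_ncard_le h (by rw [Set.ncard_smul_set]) (hOf.smul_set)).symm
  obtain ⟨χ₂, b1, b2⟩ : ∃ χ₂ ∈ x • O, χ₂ ∉ O := by
    by_contra! h
    exact a1 (Set.eq_of_subset_of_ncard_le h (by rw [Set.ncard_smul_set]) hOf)
  rw [← s₁, ← supp_smul] at b1
  obtain ⟨v₂, hv₂, s₂⟩ := exists_orbit_vec τ hP T hT b1
  have d1 : ∀ ψ ∈ O, proj τ ψ v₂ = 0 := fun ψ hψ => by
    by_contra e
    have : ψ ∈ MulAction.orbit T χ₂ := s₂ ▸ e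
    exact b2 (by rw [hO, ← MulAction.orbit_eq_iff.2 hψ, MulAction.orbit_eq_iff.2 this]; exact MulAction.mem_orbit_self _)
  have d2 : ∀ a b : K, a ≠ 0 → O ⊆ supp τ (a • v₁ + b • v₂) := fun a b ha ψ hψ => by
    change proj τ ψ _ ≠ 0
    rw [map_add, map_smul, map_smul, d1 ψ hψ, smul_zero, add_zero]
    exact smul_ne_zero ha (s₁.ge hψ)
  have hv₂0 : v₂ ≠ 0 := fun e => (s₂.ge (MulAction.mem_orbit_self χ₂) : proj τ χ₂ v₂ ≠ 0) (by rw [e, map_zero])
  have li : LinearIndependent K ![(⟨v₁, hv₁⟩ : fixS τ T), ⟨v₂, hv₂⟩] := by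
    rw [LinearIndependent.pair_iff]
    intro a b e
    have e' : a • v₁ + b • v₂ = 0 := congrArg Subtype.val e
    have ha : a = 0 := by
      by_contra ha
      exact (d2 a b ha (MulAction.mem_orbit_self χ) : proj τ χ _ ≠ 0) (by rw [e', map_zero])
    rw [ha, zero_smul, zero_add, smul_eq_zero] at e'
    exact ⟨ha, e'.resolve_right hv₂0⟩
  refine ⟨by simpa using li.fintype_card_le_finrank, fun h2 => ?_⟩
  by_contra! hn
  have sp := li.span_eq_top_of_card_eq_finrank (by simp [h2])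
  have d3 : ∀ y ∈ Q, y • O ≠ O → y • O = supp τ v₂ := fun y hy hy' => by
    have h3 : (⟨τ y v₁, hn y hy v₁ hv₁⟩ : fixS τ T) ∈ Submodule.span K
        (Set.range ![(⟨v₁, hv₁⟩ : fixS τ T), ⟨v₂, hv₂⟩]) := sp.ge trivial
    rw [Matrix.range_cons, Matrix.range_cons, Matrix.range_empty, Set.union_empty, Set.singleton_union,
      Submodule.mem_span_pair] at h3
    obtain ⟨a, b, e⟩ := h3
    have e' : a • v₁ + b • v₂ = τ y v₁ := congrArg Subtype.val e
    have e2 : supp τ (a • v₁ + b • v₂) = y • O := by rw [e', supp_smul, s₁]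
    have ha : a = 0 := by
      by_contra ha
      exact key y hy' (e2 ▸ d2 a b ha)
    rw [ha, zero_smul, zero_add] at e2
    have hb : b ≠ 0 := by
      rintro rfl
      exact (e2.ge ⟨χ, MulAction.mem_orbit_self χ, rfl⟩ : proj τ _ _ ≠ 0) (by simp)
    rw [← e2]
    ext ψ
    change proj τ ψ _ ≠ 0 ↔ proj τ ψ _ ≠ 0
    rw [map_smul, smul_ne_zero_iff, and_iff_right hb]
  have := (d3 _ (mul_mem hx hx) a2).trans (d3 x hx a1).symm
  rw [mul_smul] at this
  exact a1 (MulAction.injective x this)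

end Cfsg.Lib.Amalgam.Wt
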